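import Groth.Prelude.Def_EGA4c
import Groth.Agent.RegLoc.AdicNoeth
import Groth.Agent.RegLoc.CompleteTrans
import Groth.Agent.CAlgA.ComplFlatLimit
import Groth.Agent.CAlg48.AdicPow
import Groth.Agent.Adic.Basic
import Groth.Agent.EGA4Lib.AdicFibres
import Mathlib

/-!
# The completed tensor product of complete local algebras over a field (EGA 0_I 7.7, IV 7.5)
-/

set_option autoImplicit false
set_option linter.style.haveILetI false

universe u

open TensorProduct IsLocalRing

namespace Groth.Agent.CTens

attribute [local instance] Algebra.TensorProduct.rightAlgebra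

variable (k A B : Type u) [Field k] [CommRing A] [CommRing B] [Algebra k A] [Algebra k B]
  [IsLocalRing A] [IsLocalRing B]

/-- `(A / m_A ^ n) ⊗ B`. -/
abbrev S (n : ℕ) : Type u := (A ⧸ maximalIdeal A ^ n) ⊗[k] B

/-- `A ⊗ B → (A / m_A ^ n) ⊗ B`. -/
noncomputable def π (n : ℕ) : A ⊗[k] B →ₐ[k] S k A B n :=
  Algebra.TensorProduct.map (Ideal.Quotient.mkₐ k (maximalIdeal A ^ n)) (AlgHom.id k B)

theorem π_tmul (n : ℕ) (a : A) (b : B) :
    π k A B n (a ⊗ₜ b) = Ideal.Quotient.mk (maximalIdeal A ^ n) a ⊗ₜ b := rfl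

theorem π_surjective (n : ℕ) : Function.Surjective (π k A B n) := fun z => by
  induction z using TensorProduct.induction_on with
  | zero => exact ⟨0, map_zero _⟩
  | tmul a b => obtain ⟨a, rfl⟩ := Ideal.Quotient.mk_surjective a; exact ⟨a ⊗ₜ b, rfl⟩
  | add x y hx hy =>
    obtain ⟨x, rfl⟩ := hx
    obtain ⟨y, rfl⟩ := hy
    exact ⟨x + y, map_add _ _ _⟩

/-- The image of the ideal of definition. -/
noncomputable def Jn (n : ℕ) : Ideal (S k A B n) :=
  (EGA4.cTensorIdeal k A B).map (π k A B n).toRingHom

theorem Jn_eq (n : ℕ) : Jn k A B n =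
    (maximalIdeal A).map ((π k A B n).toRingHom.comp
      (Algebra.TensorProduct.includeLeft : A →ₐ[k] A ⊗[k] B).toRingHom) ⊔
    (maximalIdeal B).map (algebraMap B (S k A B n)) := by
  rw [Jn, EGA4.cTensorIdeal, Ideal.map_sup]
  congr 1
  · exact Ideal.map_map _ _
  · refine (Ideal.map_map _ _).trans (congrArg (fun f => Ideal.map f (maximalIdeal B)) ?_)
    ext b
    show π k A B n ((1 : A) ⊗ₜ b) = algebraMap B (S k A B n) b
    rw [π_tmul, map_one]
    rfl

theorem map_pow_eq_bot (n : ℕ) :
    (maximalIdeal A).map ((π k A B n).toRingHom.comp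
      (Algebra.TensorProduct.includeLeft : A →ₐ[k] A ⊗[k] B).toRingHom) ^ n = ⊥ := by
  rw [← Ideal.map_pow, Ideal.map_eq_bot_iff_le_ker]
  intro a ha
  rw [RingHom.mem_ker]
  show π k A B n (a ⊗ₜ (1 : B)) = 0
  rw [π_tmul, Ideal.Quotient.eq_zero_iff_mem.2 ha, TensorProduct.zero_tmul]

variable [IsNoetherianRing A] [IsNoetherianRing B]

theorem cTensorIdeal_fg : (EGA4.cTensorIdeal k A B).FG :=
  Submodule.FG.sup (Ideal.FG.map (IsNoetherian.noetherian _) _)
    (Ideal.FG.map (IsNoetherian.noetherian _) _)

omit [CommRing B] [Algebra k B] [IsLocalRing B] [IsNoetherianRing B] in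
variable {A} in
theorem finite_quotient_pow [Module.Finite k (ResidueField A)] (n : ℕ) :
    Module.Finite k (A ⧸ maximalIdeal A ^ n) := by
  induction n with
  | zero =>
    haveI : Subsingleton (A ⧸ maximalIdeal A ^ 0) :=
      Ideal.Quotient.subsingleton_iff.2 (by rw [pow_zero, Ideal.one_eq_top])
    infer_instance
  | succ n ih =>
    let f : (A ⧸ maximalIdeal A ^ (n + 1)) →ₗ[k] A ⧸ maximalIdeal A ^ n :=
      (Ideal.Quotient.factorₐ k (Ideal.pow_le_pow_right (Nat.le_succ n))).toLinearMap
    haveI hker : Module.Finite k (LinearMap.ker f) := by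
      obtain ⟨r, g, hg⟩ := Submodule.fg_iff_exists_fin_generating_family.1
        (IsNoetherian.noetherian (maximalIdeal A ^ n))
      obtain ⟨s, u, hu⟩ := Module.Finite.exists_fin (R := k) (M := ResidueField A)
      choose u' hu' using fun i => residue_surjective (u i)
      let w : Fin r × Fin s → A ⧸ maximalIdeal A ^ (n + 1) := fun i =>
        Ideal.Quotient.mk _ (u' i.2 * g i.1)
      have hle : LinearMap.ker f ≤ Submodule.span k (Set.range w) := by
        intro z hz
        obtain ⟨x, rfl⟩ := Ideal.Quotient.mk_surjective z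
        have hx : x ∈ maximalIdeal A ^ n := Ideal.Quotient.eq_zero_iff_mem.1 hz
        rw [← hg, Submodule.mem_span_range_iff_exists_fun] at hx
        obtain ⟨c, rfl⟩ := hx
        rw [map_sum]
        refine Submodule.sum_mem _ fun i _ => ?_
        have hc : residue A (c i) ∈ Submodule.span k (Set.range u) := by rw [hu]; exact trivial
        rw [Submodule.mem_span_range_iff_exists_fun] at hc
        obtain ⟨d, hd⟩ := hc
        have hm : c i - ∑ j, algebraMap k A (d j) * u' j ∈ maximalIdeal A := by
          rw [← residue_eq_zero_iff, map_sub, map_sum, ← hd, sub_eq_zero]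
          refine Finset.sum_congr rfl fun j _ => ?_
          rw [map_mul, hu', Algebra.smul_def]
          rfl
        have hgm : g i ∈ maximalIdeal A ^ n := hg ▸ Submodule.subset_span ⟨i, rfl⟩
        have hzero : Ideal.Quotient.mk (maximalIdeal A ^ (n + 1))
            ((c i - ∑ j, algebraMap k A (d j) * u' j) * g i) = 0 :=
          Ideal.Quotient.eq_zero_iff_mem.2 (by rw [pow_succ']; exact Ideal.mul_mem_mul hm hgm)
        rw [sub_mul, map_sub, sub_eq_zero] at hzero
        rw [smul_eq_mul, hzero, Finset.sum_mul, map_sum]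
        refine Submodule.sum_mem _ fun j _ => ?_
        rw [show Ideal.Quotient.mk (maximalIdeal A ^ (n + 1)) (algebraMap k A (d j) * u' j * g i) =
          d j • w (i, j) by
            rw [Algebra.smul_def, mul_assoc, map_mul]
            rfl]
        exact Submodule.smul_mem _ _ (Submodule.subset_span ⟨(i, j), rfl⟩)
      haveI : Module.Finite k (Submodule.span k (Set.range w)) :=
        Module.Finite.span_of_finite k (Set.finite_range w)
      exact Module.Finite.of_injective (Submodule.inclusion hle) (Submodule.inclusion_injective hle)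
    haveI : Module.Finite k ((A ⧸ maximalIdeal A ^ (n + 1)) ⧸ LinearMap.ker f) :=
      Module.Finite.equiv (LinearMap.quotKerEquivRange f).symm
    exact Module.Finite.of_submodule_quotient (LinearMap.ker f)

variable [Module.Finite k (ResidueField A)]

theorem finite_S (n : ℕ) : Module.Finite B (S k A B n) := by
  haveI := finite_quotient_pow k (A := A) n
  exact Module.Finite.of_surjective (R := B) (M := B ⊗[k] (A ⧸ maximalIdeal A ^ n))
    { toFun := Algebra.TensorProduct.comm k B (A ⧸ maximalIdeal A ^ n)
      map_add' := map_add _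
      map_smul' := fun b z => by
        rw [RingHom.id_apply]
        induction z using TensorProduct.induction_on with
        | zero => simp
        | add x y hx hy => simp only [smul_add, map_add, hx, hy]
        | tmul x a =>
          rw [TensorProduct.smul_tmul', Algebra.TensorProduct.comm_tmul, Algebra.TensorProduct.comm_tmul,
            Algebra.smul_def]
          show a ⊗ₜ[k] (b * x) = ((1 : A ⧸ maximalIdeal A ^ n) ⊗ₜ[k] b) * (a ⊗ₜ[k] x)
          rw [Algebra.TensorProduct.tmul_mul_tmul, one_mul] }
    (Algebra.TensorProduct.comm k B (A ⧸ maximalIdeal A ^ n)).surjective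

theorem isNoetherianRing_S (n : ℕ) : IsNoetherianRing (S k A B n) :=
  haveI := finite_S k A B n
  IsNoetherianRing.of_finite B _

theorem isAdicComplete_S [IsAdicComplete (maximalIdeal B) B] (n : ℕ) :
    IsAdicComplete (Jn k A B n) (S k A B n) := by
  haveI := finite_S k A B n
  haveI : IsAdicComplete (maximalIdeal B) (S k A B n) := Adic.isAdicComplete_of_finite _
  haveI : IsAdicComplete ((maximalIdeal B).map (algebraMap B (S k A B n))) (S k A B n) :=
    (IsAdicComplete.map_algebraMap_iff _ _).2 inferInstance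
  refine CAlg48.AdicPow.isAdicComplete_of_pow_le (I := (maximalIdeal B).map (algebraMap B (S k A B n)))
    (c := 1) (d := n + 1) one_pos (Nat.succ_pos n) ?_ ?_
  · rw [pow_one, Jn_eq]; exact le_sup_right
  · rw [Jn_eq]
    refine (Ideal.sup_pow_add_le_pow_sup_pow (n := n) (m := 1)).trans ?_
    rw [map_pow_eq_bot, pow_one, bot_sup_eq]

/-- The completed tensor product is Noetherian. -/
theorem isNoetherianRing_cTensor : IsNoetherianRing (EGA4.CTensor k A B) := by
  haveI : IsNoetherianRing ((A ⊗[k] B) ⧸ EGA4.cTensorIdeal k A B) := by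
    haveI := isNoetherianRing_S k A B 1
    let q : S k A B 1 →ₐ[k] (A ⊗[k] B) ⧸ EGA4.cTensorIdeal k A B := Algebra.TensorProduct.lift
      (Ideal.Quotient.liftₐ (maximalIdeal A ^ 1)
        ((Ideal.Quotient.mkₐ k (EGA4.cTensorIdeal k A B)).comp Algebra.TensorProduct.includeLeft)
        fun a ha => Ideal.Quotient.eq_zero_iff_mem.2
          (Ideal.mem_sup_left (Ideal.mem_map_of_mem _ (by rwa [pow_one] at ha))))
      ((Ideal.Quotient.mkₐ k (EGA4.cTensorIdeal k A B)).comp Algebra.TensorProduct.includeRight)
      (fun _ _ => Commute.all _ _)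
    have hq : q.comp (π k A B 1) = Ideal.Quotient.mkₐ k (EGA4.cTensorIdeal k A B) := by
      refine Algebra.TensorProduct.ext' fun a b => ?_
      show q (Ideal.Quotient.mk (maximalIdeal A ^ 1) a ⊗ₜ b) = _
      rw [Algebra.TensorProduct.lift_tmul]
      change Ideal.Quotient.mk _ (a ⊗ₜ (1 : B)) * Ideal.Quotient.mk _ ((1 : A) ⊗ₜ b) = _
      rw [← map_mul, Algebra.TensorProduct.tmul_mul_tmul, one_mul, mul_one]
      rfl
    refine isNoetherianRing_of_surjective _ _ q.toRingHom fun z => ?_
    obtain ⟨t, rfl⟩ := Ideal.Quotient.mk_surjective z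
    exact ⟨π k A B 1 t, DFunLike.congr_fun hq t⟩
  exact RegLoc.AdicNoeth.isNoetherianRing_adicCompletion _ (cTensorIdeal_fg k A B)

omit [Module.Finite k (ResidueField A)] in
theorem isAdicComplete_cTensor :
    IsAdicComplete ((EGA4.cTensorIdeal k A B).map (algebraMap _ (EGA4.CTensor k A B)))
      (EGA4.CTensor k A B) :=
  AdicCompletion.isAdicComplete_self _ (cTensorIdeal_fg k A B)

omit [IsNoetherianRing A] [IsNoetherianRing B] [Module.Finite k (ResidueField A)] in
theorem map_le (n : ℕ) : (maximalIdeal A ^ n).map (algebraMap A (EGA4.CTensor k A B)) ≤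
    ((EGA4.cTensorIdeal k A B).map (algebraMap _ (EGA4.CTensor k A B))) ^ n := by
  rw [Ideal.map_pow]
  refine Ideal.pow_right_mono ?_ n
  rw [IsScalarTower.algebraMap_eq A (A ⊗[k] B) (EGA4.CTensor k A B), ← Ideal.map_map]
  exact Ideal.map_mono le_sup_left

/-- Density of a ring in its completion at a finitely generated ideal. -/
theorem completion_exists_sub_mem_pow {T : Type u} [CommRing T] {I : Ideal T} (hI : I.FG) (j : ℕ)
    (x : AdicCompletion I T) :
    ∃ t : T, x - algebraMap T (AdicCompletion I T) t ∈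
      (I ^ j).map (algebraMap T (AdicCompletion I T)) := by
  induction x using AdicCompletion.induction_on with
  | _ c =>
  refine ⟨c j, ?_⟩
  have h0 : AdicCompletion.eval I T j
      (AdicCompletion.mk I T c - algebraMap T (AdicCompletion I T) (c j)) = 0 := by
    rw [map_sub, sub_eq_zero, AdicCompletion.algebraMap_apply]
    simp only [AdicCompletion.eval_of, AdicCompletion.eval_apply, AdicCompletion.mk_apply_coe]
    rfl
  rw [← LinearMap.mem_ker, ← AdicCompletion.pow_smul_top_eq_ker_eval hI, Ideal.smul_top_eq_map] at h0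
  exact h0

/-- The projection `C → (A / m_A ^ n) ⊗ B`: surjective, kernel `m_A ^ n C`. -/
theorem exists_proj [IsAdicComplete (maximalIdeal B) B] (n : ℕ) :
    ∃ φ : EGA4.CTensor k A B →+* S k A B n,
      (∀ t, φ (algebraMap (A ⊗[k] B) _ t) = π k A B n t) ∧ Function.Surjective φ ∧
      RingHom.ker φ = (maximalIdeal A ^ n).map (algebraMap A (EGA4.CTensor k A B)) := by
  classical
  let T := A ⊗[k] B
  let J := EGA4.cTensorIdeal k A B
  let C := EGA4.CTensor k A B
  haveI : IsNoetherianRing C := isNoetherianRing_cTensor k A B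
  haveI := isAdicComplete_S k A B n
  haveI := isAdicComplete_cTensor k A B
  have hle : ∀ j, J ^ j ≤ (Jn k A B n ^ j).comap (π k A B n).toRingHom := fun j => by
    rw [Jn, ← Ideal.map_pow]; exact Ideal.le_comap_map
  let f : ∀ j, C →+* S k A B n ⧸ Jn k A B n ^ j := fun j =>
    (Ideal.quotientMap _ (π k A B n).toRingHom (hle j)).comp (AdicCompletion.evalₐ J j).toRingHom
  have hf : ∀ {i j : ℕ} (h : i ≤ j),
      (Ideal.Quotient.factor (Ideal.pow_le_pow_right h)).comp (f j) = f i := fun {i j} h => by
    refine RingHom.ext fun x => ?_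
    induction x using AdicCompletion.induction_on with
    | _ s =>
      simp only [f, RingHom.comp_apply, AlgHom.toRingHom_eq_coe, RingHom.coe_coe, AdicCompletion.evalₐ_mk]
      change Ideal.Quotient.mk _ (π k A B n (s.val j)) = Ideal.Quotient.mk _ (π k A B n (s.val i))
      rw [Ideal.Quotient.eq, ← map_sub]
      refine hle i ?_
      have h1 := s.property h
      rw [SModEq.sub_mem, smul_eq_mul, Ideal.mul_top] at h1
      rw [← neg_sub]
      exact (J ^ i).neg_mem h1
  let φ := IsAdicComplete.liftRingHom (Jn k A B n) f hf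
  have hφT : ∀ t, φ (algebraMap T C t) = π k A B n t := fun t => by
    refine (IsHausdorff.eq_iff_smodEq (I := Jn k A B n)).2 fun j => ?_
    rw [SModEq.sub_mem, smul_eq_mul, Ideal.mul_top, ← Ideal.Quotient.eq]
    refine (IsAdicComplete.mk_liftRingHom (Jn k A B n) f hf j _).trans ?_
    simp only [f, RingHom.comp_apply, AlgHom.toRingHom_eq_coe, RingHom.coe_coe,
      AdicCompletion.algebraMap_apply]
    simp [AdicCompletion.evalₐ_of]
    rfl
  have hsurj : Function.Surjective φ := fun z => by
    obtain ⟨t, rfl⟩ := π_surjective k A B n z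
    exact ⟨_, hφT t⟩
  refine ⟨φ, hφT, hsurj, le_antisymm ?_ ?_⟩
  · -- the inverse map `S n → C / m^n C`
    set N : Ideal C := (maximalIdeal A ^ n).map (algebraMap A C)
    let ψ : S k A B n →ₐ[k] C ⧸ N := Algebra.TensorProduct.lift
      (Ideal.Quotient.liftₐ (maximalIdeal A ^ n) ((Ideal.Quotient.mkₐ k N).comp (IsScalarTower.toAlgHom k A C))
        fun a ha => Ideal.Quotient.eq_zero_iff_mem.2 (Ideal.mem_map_of_mem _ ha))
      ((Ideal.Quotient.mkₐ k N).comp ((IsScalarTower.toAlgHom k T C).comp Algebra.TensorProduct.includeRight))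
      (fun _ _ => Commute.all _ _)
    have hψ : ψ.comp (π k A B n) = (Ideal.Quotient.mkₐ k N).comp (IsScalarTower.toAlgHom k T C) := by
      refine Algebra.TensorProduct.ext' fun a b => ?_
      show ψ (Ideal.Quotient.mk (maximalIdeal A ^ n) a ⊗ₜ b) =
        Ideal.Quotient.mk N (algebraMap T C (a ⊗ₜ b))
      rw [Algebra.TensorProduct.lift_tmul]
      change Ideal.Quotient.mk N (algebraMap A C a) * Ideal.Quotient.mk N (algebraMap T C (1 ⊗ₜ b)) = _
      rw [← map_mul, IsScalarTower.algebraMap_apply A T C, ← map_mul,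
        Algebra.TensorProduct.algebraMap_apply, Algebra.TensorProduct.tmul_mul_tmul, one_mul]
      simp
    intro x hx
    rw [RingHom.mem_ker] at hx
    set JC : Ideal C := J.map (algebraMap T C)
    have hj : ∀ j, Ideal.Quotient.mk N x ∈ (JC ^ j).map (Ideal.Quotient.mk N) := by
      intro j
      obtain ⟨t, ht⟩ := completion_exists_sub_mem_pow (cTensorIdeal_fg k A B) j x
      rw [Ideal.map_pow] at ht
      have h1 : π k A B n t ∈ Jn k A B n ^ j := by
        have := Ideal.mem_map_of_mem φ ht
        rw [map_sub, hx, zero_sub, hφT, Ideal.map_pow, Ideal.map_map,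
          show φ.comp (algebraMap T C) = (π k A B n).toRingHom from RingHom.ext hφT] at this
        simpa [Jn] using this
      have h2 : Ideal.Quotient.mk N (algebraMap T C t) ∈ (JC ^ j).map (Ideal.Quotient.mk N) := by
        rw [show Ideal.Quotient.mk N (algebraMap T C t) = ψ (π k A B n t) from
          (DFunLike.congr_fun hψ t).symm]
        have := Ideal.mem_map_of_mem ψ.toRingHom h1
        rw [Jn, ← Ideal.map_pow, Ideal.map_map, show ψ.toRingHom.comp (π k A B n).toRingHom =
          (Ideal.Quotient.mk N).comp (algebraMap T C) from congrArg AlgHom.toRingHom hψ,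
          ← Ideal.map_map, Ideal.map_pow] at this
        exact this
      have h3 := Ideal.mem_map_of_mem (Ideal.Quotient.mk N) ht
      rw [map_sub] at h3
      have h4 := add_mem h3 h2
      rwa [sub_add_cancel] at h4
    haveI : IsHausdorff JC (C ⧸ N) :=
      IsHausdorff.of_le_jacobson JC (C ⧸ N) (IsAdicComplete.le_jacobson_bot JC)
    refine Ideal.Quotient.eq_zero_iff_mem.1 (IsHausdorff.haus (I := JC) inferInstance _ fun j => ?_)
    rw [SModEq.zero, Ideal.smul_top_eq_map, Submodule.restrictScalars_mem]
    exact hj j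
  · refine Ideal.map_le_iff_le_comap.2 fun a ha => ?_
    rw [Ideal.mem_comap, RingHom.mem_ker, IsScalarTower.algebraMap_apply A T C, hφT,
      Algebra.TensorProduct.algebraMap_apply]
    show π k A B n (a ⊗ₜ (1 : B)) = 0
    rw [π_tmul, Ideal.Quotient.eq_zero_iff_mem.2 ha, TensorProduct.zero_tmul]

theorem isAdicComplete_map_maximalIdeal :
    IsAdicComplete (maximalIdeal A) (EGA4.CTensor k A B) := by
  haveI := isNoetherianRing_cTensor k A B
  haveI := isAdicComplete_cTensor k A B
  have hle : (maximalIdeal A).map (algebraMap A (EGA4.CTensor k A B)) ≤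
      (EGA4.cTensorIdeal k A B).map (algebraMap (A ⊗[k] B) (EGA4.CTensor k A B)) := by
    simpa using map_le k A B 1
  haveI : IsAdicComplete ((maximalIdeal A).map (algebraMap A (EGA4.CTensor k A B))) (EGA4.CTensor k A B) :=
    RegLoc.CompleteTrans.isAdicComplete_of_le hle
  exact (IsAdicComplete.map_algebraMap_iff (S := EGA4.CTensor k A B) (maximalIdeal A) (EGA4.CTensor k A B)).1 inferInstance

/-- The completed tensor product is flat over `A`. -/
theorem flat_left [IsAdicComplete (maximalIdeal B) B] : Module.Flat A (EGA4.CTensor k A B) := by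
  classical
  let C := EGA4.CTensor k A B
  haveI := isAdicComplete_map_maximalIdeal k A B
  let ι := Module.Free.ChooseBasisIndex k B
  let b : Module.Basis ι k B := Module.Free.chooseBasis k B
  let α : (ι →₀ A) →ₗ[A] C :=
    Finsupp.linearCombination A fun i => algebraMap (A ⊗[k] B) C (1 ⊗ₜ b i)
  have hα : ∀ n : ℕ, (∀ c : C, ∃ x, c - α x ∈ maximalIdeal A ^ n • (⊤ : Submodule A C)) ∧
      ∀ x, α x ∈ maximalIdeal A ^ n • (⊤ : Submodule A C) →
        x ∈ maximalIdeal A ^ n • (⊤ : Submodule A (ι →₀ A)) := by
    intro n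
    obtain ⟨φ, hφ, hsurj, hker⟩ := exists_proj k A B n
    have hmem : ∀ c : C, c ∈ maximalIdeal A ^ n • (⊤ : Submodule A C) ↔ φ c = 0 := fun c => by
      rw [Ideal.smul_top_eq_map, Submodule.restrictScalars_mem, ← RingHom.mem_ker, hker]
    let bn := Algebra.TensorProduct.basis (A ⧸ maximalIdeal A ^ n) b
    have hφα : ∀ x, φ (α x) = Finsupp.linearCombination (A ⧸ maximalIdeal A ^ n) bn
        (x.mapRange (Ideal.Quotient.mk (maximalIdeal A ^ n)) (map_zero _)) := by
      intro x
      induction x using Finsupp.induction_linear with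
      | zero => simp
      | add x y hx hy => simp [Finsupp.mapRange_add, hx, hy]
      | single i a =>
        rw [Finsupp.mapRange_single, Finsupp.linearCombination_single, Finsupp.linearCombination_single,
          Algebra.smul_def, Algebra.smul_def, map_mul, IsScalarTower.algebraMap_apply A (A ⊗[k] B) C, hφ, hφ,
          Algebra.TensorProduct.basis_apply, Algebra.TensorProduct.algebraMap_apply,
          Algebra.TensorProduct.algebraMap_apply]
        show π k A B n (a ⊗ₜ (1 : B)) * π k A B n ((1 : A) ⊗ₜ b i) = _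
        rw [π_tmul, π_tmul, map_one]
        rfl
    constructor
    · intro c
      let z := bn.repr (φ c)
      obtain ⟨x, hx⟩ := Finsupp.mapRange_surjective (α := ι) (Ideal.Quotient.mk (maximalIdeal A ^ n))
        (map_zero _) Ideal.Quotient.mk_surjective z
      refine ⟨x, (hmem _).2 ?_⟩
      rw [map_sub, hφα, hx, Module.Basis.linearCombination_repr, sub_self]
    · intro x hx
      rw [hmem, hφα] at hx
      have h0 := (linearIndependent_iff.1 bn.linearIndependent) _ hx
      rw [← Finsupp.sum_single x]
      refine Submodule.sum_mem _ fun i _ => ?_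
      have hi : x i ∈ maximalIdeal A ^ n := Ideal.Quotient.eq_zero_iff_mem.1 (by
        simpa using DFunLike.congr_fun h0 i)
      rw [← Finsupp.smul_single_one]
      exact Submodule.smul_mem_smul hi trivial
  refine CAlgA.ComplFlatLimit.FlatModPow.flat (I := maximalIdeal A) ?_
  intro n X Y _ _ _ _ a ha hY
  have hX : maximalIdeal A ^ n • (⊤ : Submodule A X) = ⊥ := by
    rw [eq_bot_iff]
    intro x hx
    rw [Submodule.mem_bot]
    apply ha
    have := CAlgA.ComplFlatLimit.map_mem_smul_top (maximalIdeal A ^ n) a hx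
    rwa [hY, Submodule.mem_bot, ← map_zero a] at this
  have hbX := CAlgA.ComplFlatLimit.lTensor_bijective_of_mod _ X hX α (hα n).1 (hα n).2
  have hbY := CAlgA.ComplFlatLimit.lTensor_bijective_of_mod _ Y hY α (hα n).1 (hα n).2
  have hF : Function.Injective (a.rTensor (ι →₀ A)) :=
    Module.Flat.rTensor_preserves_injective_linearMap a ha
  intro u v huv
  obtain ⟨u, rfl⟩ := hbX.2 u
  obtain ⟨v, rfl⟩ := hbX.2 v
  refine congrArg _ (hF (hbY.1 ?_))
  rw [← LinearMap.comp_apply, ← LinearMap.comp_apply, LinearMap.rTensor_comp_lTensor,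
    ← LinearMap.lTensor_comp_rTensor] at huv
  exact huv

end Groth.Agent.CTens
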