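import Groth.Agent.CTens.Basic
import Groth.Agent.S4746
import Groth.Agent.HenGeomInt.Branch
import Groth.Agent.Hens.GRingFinite
import Groth.Agent.Hens.SemiLocal
import Groth.Agent.EGA4Lib.FibreComp
import Groth.Agent.FBase.TensorAlgClosed
import Mathlib

/-!
# Reducedness of completed tensor products (EGA IV 7.5)
-/

set_option autoImplicit false
set_option linter.style.haveILetI false

universe u

open TensorProduct IsLocalRing

namespace Groth.Agent.CTens

/-- A complete local ring has geometrically reduced formal fibres. -/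
theorem hasGeomReducedFormalFibres_of_complete (A : Type u) [CommRing A] [IsLocalRing A]
    [IsAdicComplete (maximalIdeal A) A] : EGA4.HasGeomReducedFormalFibres A := by
  intro p _
  let Ω := AlgebraicClosure p.ResidueField
  let e : EGA4.Cpl A ≃ₐ[A] A := (AdicCompletion.ofAlgEquiv (maximalIdeal A)).symm
  rw [Algebra.isGeometricallyReduced_field_iff]
  let e1 : Ω ⊗[p.ResidueField] (p.ResidueField ⊗[A] EGA4.Cpl A) ≃+* Ω :=
    ((Algebra.TensorProduct.cancelBaseChange A p.ResidueField Ω Ω (EGA4.Cpl A)).toRingEquiv.trans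
      (Algebra.TensorProduct.congr (AlgEquiv.refl : Ω ≃ₐ[A] Ω) e).toRingEquiv).trans
      (Algebra.TensorProduct.rid A A Ω).toRingEquiv
  exact isReduced_of_injective e1 e1.injective

/-- A surjection induces a surjection on local rings at a maximal ideal containing the kernel. -/
theorem exists_localization_quotient {C D : Type u} [CommRing C] [CommRing D] (φ : C →+* D)
    (hφ : Function.Surjective φ) (M : Ideal C) [hM : M.IsMaximal] (hle : RingHom.ker φ ≤ M) :
    ∃ (N : Ideal D) (_ : N.IsMaximal) (g : Localization.AtPrime M →+* Localization.AtPrime N),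
      Function.Surjective g ∧
        RingHom.ker g = (RingHom.ker φ).map (algebraMap C (Localization.AtPrime M)) := by
  have hNc : (M.map φ).comap φ = M := by
    rw [Ideal.comap_map_of_surjective φ hφ, ← RingHom.ker_eq_comap_bot, sup_eq_left.2 hle]
  haveI hNp : (M.map φ).IsMaximal := Or.resolve_left
    (Ideal.map_eq_top_or_isMaximal_of_surjective φ hφ hM) fun h => hM.ne_top (by
      rw [← hNc, h, Ideal.comap_top])
  have hu : ∀ y : M.primeCompl,
      IsUnit ((algebraMap D (Localization.AtPrime (M.map φ))).comp φ y) := fun y =>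
    IsLocalization.map_units (Localization.AtPrime (M.map φ))
      (⟨φ y, fun h => y.2 (hNc.le h)⟩ : (M.map φ).primeCompl)
  let g : Localization.AtPrime M →+* Localization.AtPrime (M.map φ) := IsLocalization.lift hu
  refine ⟨M.map φ, hNp, g, fun w => ?_, le_antisymm (fun x hx => ?_)
    (Ideal.map_le_iff_le_comap.2 fun c hc => ?_)⟩
  · obtain ⟨a, s, rfl⟩ := IsLocalization.exists_mk'_eq (M.map φ).primeCompl w
    obtain ⟨a', ha⟩ := hφ a
    obtain ⟨s', hs⟩ := hφ s
    have hs' : s' ∈ M.primeCompl := fun h => s.2 (by rw [← hs]; exact Ideal.mem_map_of_mem φ h)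
    refine ⟨IsLocalization.mk' _ a' (⟨s', hs'⟩ : M.primeCompl), ?_⟩
    rw [IsLocalization.lift_mk'_spec]
    simp only [RingHom.comp_apply, ha, hs]
    exact (IsLocalization.mk'_spec' _ a s).symm
  · obtain ⟨c, s, rfl⟩ := IsLocalization.exists_mk'_eq M.primeCompl x
    rw [RingHom.mem_ker, IsLocalization.lift_mk'_spec, mul_zero, RingHom.comp_apply,
      IsLocalization.map_eq_zero_iff (M.map φ).primeCompl] at hx
    obtain ⟨u, hu0⟩ := hx
    obtain ⟨u', hu'⟩ := hφ u
    rw [IsLocalization.mk'_mem_map_algebraMap_iff]
    refine ⟨u', fun h => u.2 (by rw [← hu']; exact Ideal.mem_map_of_mem φ h), ?_⟩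
    rw [RingHom.mem_ker, map_mul, hu', hu0]
  · rw [Ideal.mem_comap, RingHom.mem_ker, IsLocalization.lift_eq, RingHom.comp_apply,
      RingHom.mem_ker.1 hc, map_zero]

/-- If `L / P` is complete and reduced then so is the completion of `L` modulo `P`. -/
theorem isReduced_completion_quotient {L W : Type u} [CommRing L] [IsLocalRing L] [IsNoetherianRing L]
    [CommRing W] [IsLocalRing W] [IsNoetherianRing W] [IsAdicComplete (maximalIdeal W) W] [IsReduced W]
    (g : L →+* W) (hg : Function.Surjective g) (P : Ideal L) (hP : RingHom.ker g = P) :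
    IsReduced (EGA4.Cpl L ⧸ P.map (algebraMap L (EGA4.Cpl L))) := by
  subst hP
  let eQ : (L ⧸ RingHom.ker g) ≃+* W := RingHom.quotientKerEquivOfSurjective hg
  haveI : Nontrivial (L ⧸ RingHom.ker g) := eQ.toEquiv.nontrivial
  haveI : IsLocalRing (L ⧸ RingHom.ker g) := eQ.symm.isLocalRing
  obtain ⟨e1⟩ := Hensel.nonempty_quotient_completion_equiv L (RingHom.ker g)
  obtain ⟨e2⟩ := HenGeomInt.nonempty_completion_ringEquiv eQ
  let e3 : AdicCompletion (maximalIdeal W) W ≃+* W :=
    (AdicCompletion.ofAlgEquiv (maximalIdeal W)).symm.toRingEquiv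
  let e4 := e1.symm.trans (e2.trans e3)
  exact isReduced_of_injective e4 e4.injective

attribute [local instance] Algebra.TensorProduct.rightAlgebra

variable (k A B : Type u) [Field k] [CommRing A] [CommRing B] [Algebra k A] [Algebra k B]
  [IsLocalRing A] [IsLocalRing B] [IsNoetherianRing A] [IsNoetherianRing B]
  [Module.Finite k (ResidueField A)]

omit [Module.Finite k (ResidueField A)] in
theorem map_maximalIdeal_le_jacobson :
    (maximalIdeal A).map (algebraMap A (EGA4.CTensor k A B)) ≤
      (⊥ : Ideal (EGA4.CTensor k A B)).jacobson := by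
  haveI := isAdicComplete_cTensor k A B
  have h := map_le k A B 1
  simp only [pow_one] at h
  exact h.trans (IsAdicComplete.le_jacobson_bot _)

omit [Module.Finite k (ResidueField A)] in
theorem map_le_of_isMaximal (M : Ideal (EGA4.CTensor k A B)) [hM : M.IsMaximal] :
    (EGA4.cTensorIdeal k A B).map (algebraMap _ (EGA4.CTensor k A B)) ≤ M := by
  haveI := isAdicComplete_cTensor k A B
  exact (IsAdicComplete.le_jacobson_bot _).trans (sInf_le ⟨bot_le, hM⟩)

omit [Module.Finite k (ResidueField A)] in
/-- `A ⊗ B` surjects onto the residue fields of the completion. -/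
theorem exists_sub_mem (M : Ideal (EGA4.CTensor k A B)) [M.IsMaximal] (x : EGA4.CTensor k A B) :
    ∃ t : A ⊗[k] B, x - algebraMap _ (EGA4.CTensor k A B) t ∈ M := by
  obtain ⟨t, ht⟩ := completion_exists_sub_mem_pow (cTensorIdeal_fg k A B) 1 x
  rw [pow_one] at ht
  exact ⟨t, map_le_of_isMaximal k A B M ht⟩

/-- The residue fields of the completed tensor product are finite over `k`. -/
theorem finite_quotient [Module.Finite k (ResidueField B)] (M : Ideal (EGA4.CTensor k A B))
    [M.IsMaximal] : Module.Finite k (EGA4.CTensor k A B ⧸ M) := by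
  let C := EGA4.CTensor k A B
  let q : A ⊗[k] B →ₐ[k] C ⧸ M :=
    (Ideal.Quotient.mkₐ k M).comp (IsScalarTower.toAlgHom k (A ⊗[k] B) C)
  have hJ : ∀ t ∈ EGA4.cTensorIdeal k A B, q t = 0 := fun t ht =>
    Ideal.Quotient.eq_zero_iff_mem.2 (map_le_of_isMaximal k A B M (Ideal.mem_map_of_mem _ ht))
  let g : ResidueField A ⊗[k] ResidueField B →ₐ[k] C ⧸ M := Algebra.TensorProduct.lift
    (Ideal.Quotient.liftₐ (maximalIdeal A) (q.comp Algebra.TensorProduct.includeLeft)
      fun a ha => hJ _ (Ideal.mem_sup_left (Ideal.mem_map_of_mem _ ha)))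
    (Ideal.Quotient.liftₐ (maximalIdeal B) (q.comp Algebra.TensorProduct.includeRight)
      fun b hb => hJ _ (Ideal.mem_sup_right (Ideal.mem_map_of_mem _ hb)))
    (fun _ _ => Commute.all _ _)
  have hg : ∀ t, q t ∈ Set.range g := by
    intro t
    induction t using TensorProduct.induction_on with
    | zero => exact ⟨0, by rw [map_zero, map_zero]⟩
    | tmul a b =>
      refine ⟨residue A a ⊗ₜ residue B b, ?_⟩
      rw [Algebra.TensorProduct.lift_tmul]
      show q (a ⊗ₜ (1 : B)) * q ((1 : A) ⊗ₜ b) = q (a ⊗ₜ b)
      rw [← map_mul, Algebra.TensorProduct.tmul_mul_tmul, mul_one, one_mul]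
    | add x y hx hy =>
      obtain ⟨x', hx⟩ := hx
      obtain ⟨y', hy⟩ := hy
      exact ⟨x' + y', by rw [map_add, map_add, hx, hy]⟩
  refine Module.Finite.of_surjective g.toLinearMap fun z => ?_
  obtain ⟨x, rfl⟩ := Ideal.Quotient.mk_surjective z
  obtain ⟨t, ht⟩ := exists_sub_mem k A B M x
  obtain ⟨w, hw⟩ := hg t
  exact ⟨w, hw.trans (Ideal.Quotient.eq.2 ht).symm⟩

/-- Over a perfect field the completed tensor product of reduced complete rings is reduced. -/
theorem isReduced_cTensor [IsAdicComplete (maximalIdeal A) A] [IsAdicComplete (maximalIdeal B) B]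
    [Module.Finite k (ResidueField B)] [PerfectField k] [IsReduced A] [IsReduced B] :
    IsReduced (EGA4.CTensor k A B) := by
  classical
  let C := EGA4.CTensor k A B
  haveI : IsNoetherianRing C := isNoetherianRing_cTensor k A B
  haveI : Module.Flat A C := flat_left k A B
  obtain ⟨φ, -, hφ, hker0⟩ := exists_proj k A B 1
  have hker : RingHom.ker φ = (maximalIdeal A).map (algebraMap A C) :=
    hker0.trans (congrArg (fun I => Ideal.map (algebraMap A C) I) (pow_one (maximalIdeal A)))
  haveI : IsReduced (S k A B 1) := by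
    letI : Field (A ⧸ maximalIdeal A) := Ideal.Quotient.field _
    haveI := FBase.TensorAlgClosed.isGeometricallyReduced_of_perfectField (k := k) (A := B)
    haveI : IsReduced ((A ⧸ maximalIdeal A) ⊗[k] B) :=
      FBase.TensorAlgClosed.isReduced_tensor_of_isGeometricallyReduced
    let e := (Algebra.TensorProduct.congr (Ideal.quotientEquivAlgOfEq k (pow_one (maximalIdeal A)))
      (AlgEquiv.refl : B ≃ₐ[k] B))
    exact isReduced_of_injective e e.injective
  refine isReduced_ofLocalizationMaximal C fun M hM => ?_
  let L := Localization.AtPrime M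
  have hmM : (maximalIdeal A).map (algebraMap A C) ≤ M :=
    (map_maximalIdeal_le_jacobson k A B).trans (sInf_le ⟨bot_le, hM⟩)
  haveI : Module.Flat C L := IsLocalization.flat L M.primeCompl
  haveI : Module.Flat A L := Module.Flat.trans A C L
  haveI : IsLocalHom (algebraMap A L) := ⟨fun a ha => by
    by_contra hna
    have h1 : algebraMap A C a ∈ M := hmM (Ideal.mem_map_of_mem _ ((mem_maximalIdeal a).2 hna))
    exact (mem_maximalIdeal _).1 ((IsLocalization.AtPrime.to_map_mem_maximal_iff L M _).2 h1)
      (by rwa [← IsScalarTower.algebraMap_apply A C L])⟩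
  haveI : Module.Finite k (C ⧸ M) := finite_quotient k A B M
  haveI : Module.Finite k (ResidueField L) := by
    let f : C ⧸ M →ₐ[k] M.ResidueField := IsScalarTower.toAlgHom k (C ⧸ M) M.ResidueField
    exact Module.Finite.of_surjective f.toLinearMap M.bijective_algebraMap_quotient_residueField.surjective
  haveI : IsScalarTower k (ResidueField A) (ResidueField L) := IsScalarTower.of_algebraMap_eq fun c => by
    rw [IsScalarTower.algebraMap_apply k A (ResidueField A), IsScalarTower.algebraMap_apply k A (ResidueField L)]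
    rfl
  haveI : Module.Finite (ResidueField A) (ResidueField L) :=
    Module.Finite.of_restrictScalars_finite k (ResidueField A) (ResidueField L)
  -- the closed fibre: a factor of `(A/m) ⊗ B`
  haveI := isNoetherianRing_S k A B 1
  haveI := finite_S k A B 1
  obtain ⟨N, hN, g, hgsurj, hgker⟩ := exists_localization_quotient φ hφ M (hker.le.trans hmM)
  haveI := hN
  haveI := (Hens.finite_and_isAdicComplete_localization (R₀ := B) N).2
  haveI : IsReduced (Localization.AtPrime N) :=
    isReduced_localizationPreserves N.primeCompl (Localization.AtPrime N) inferInstance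
  haveI : IsNoetherianRing (Localization.AtPrime N) :=
    IsLocalization.isNoetherianRing N.primeCompl _ inferInstance
  rw [hker, Ideal.map_map, ← IsScalarTower.algebraMap_eq] at hgker
  haveI := isReduced_completion_quotient g hgsurj _ hgker
  haveI : IsReduced (EGA4.Cpl L ⧸ (maximalIdeal A).map (algebraMap A (EGA4.Cpl L))) := by
    let e4 := Ideal.quotEquivOfEq (show (maximalIdeal A).map (algebraMap A (EGA4.Cpl L)) =
      ((maximalIdeal A).map (algebraMap A L)).map (algebraMap L (EGA4.Cpl L)) by
        rw [Ideal.map_map, ← IsScalarTower.algebraMap_eq])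
    exact isReduced_of_injective e4 e4.injective
  haveI : IsReduced ((maximalIdeal A).Fiber (EGA4.Cpl L)) := by
    let eκ : (A ⧸ maximalIdeal A) ≃ₐ[A] (maximalIdeal A).ResidueField :=
      AlgEquiv.ofBijective (IsScalarTower.toAlgHom A (A ⧸ maximalIdeal A) _)
        (maximalIdeal A).bijective_algebraMap_quotient_residueField
    let e5 : (maximalIdeal A).Fiber (EGA4.Cpl L) ≃+*
        EGA4.Cpl L ⧸ (maximalIdeal A).map (algebraMap A (EGA4.Cpl L)) :=
      ((Algebra.TensorProduct.congr eκ.symm (AlgEquiv.refl : EGA4.Cpl L ≃ₐ[A] EGA4.Cpl L)).toRingEquiv.trans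
        (Algebra.TensorProduct.comm A _ _).toRingEquiv).trans
        (Algebra.TensorProduct.quotIdealMapEquivTensorQuot (EGA4.Cpl L) (maximalIdeal A)).symm.toRingEquiv
    exact isReduced_of_injective e5 e5.injective
  haveI : Module.Finite k (A ⧸ maximalIdeal A) := inferInstanceAs (Module.Finite k (ResidueField A))
  haveI : Module.Finite k (maximalIdeal A).ResidueField :=
    Module.Finite.of_surjective (IsScalarTower.toAlgHom k (A ⧸ maximalIdeal A) (maximalIdeal A).ResidueField).toLinearMap
      (maximalIdeal A).bijective_algebraMap_quotient_residueField.surjective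
  haveI : PerfectField (maximalIdeal A).ResidueField := Algebra.IsAlgebraic.perfectField k
  have hfib := Groth.Agent.S4746.result A L (hasGeomReducedFormalFibres_of_complete A)
    FBase.TensorAlgClosed.isGeometricallyReduced_of_perfectField
  haveI : IsReduced (A ⊗[A] L) := EGA4Lib.isReduced_tensor_of_isGeometricallyReduced (fun p _ => hfib p) A
  exact isReduced_of_injective (Algebra.TensorProduct.lid A L).symm (AlgEquiv.injective _)

end Groth.Agent.CTens
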