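import Groth.Agent.CTens.Reduced

/-!
# Semilocal structure and flatness of the completed tensor product
-/

set_option autoImplicit false
set_option linter.style.haveILetI false

universe u

open TensorProduct IsLocalRing

namespace Groth.Agent.CTens

attribute [local instance] Algebra.TensorProduct.rightAlgebra

variable (k A B : Type u) [Field k] [CommRing A] [CommRing B] [Algebra k A] [Algebra k B]
  [IsLocalRing A] [IsLocalRing B] [IsNoetherianRing A] [IsNoetherianRing B]
  [Module.Finite k (ResidueField A)] [IsAdicComplete (maximalIdeal B) B]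

theorem finite_maximalSpectrum_cTensor : Finite (MaximalSpectrum (EGA4.CTensor k A B)) := by
  obtain ⟨φ, -, hφ, hker⟩ := exists_proj k A B 1
  haveI := finite_S k A B 1
  haveI := Hens.finite_maximalSpectrum_of_finite B (S k A B 1)
  have hle : ∀ M : MaximalSpectrum (EGA4.CTensor k A B), RingHom.ker φ ≤ M.asIdeal := fun M => by
    rw [hker, pow_one]
    exact (map_maximalIdeal_le_jacobson k A B).trans (sInf_le ⟨bot_le, M.isMaximal⟩)
  have hc : ∀ M : MaximalSpectrum (EGA4.CTensor k A B), (M.asIdeal.map φ).comap φ = M.asIdeal := fun M => by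
    rw [Ideal.comap_map_of_surjective φ hφ, ← RingHom.ker_eq_comap_bot, sup_eq_left.2 (hle M)]
  let f : MaximalSpectrum (EGA4.CTensor k A B) → MaximalSpectrum (S k A B 1) := fun M =>
    ⟨M.asIdeal.map φ, (Ideal.map_eq_top_or_isMaximal_of_surjective φ hφ M.isMaximal).resolve_left
      fun h => M.isMaximal.ne_top (by rw [← hc M, h, Ideal.comap_top])⟩
  refine Finite.of_injective f fun M M' h => MaximalSpectrum.ext ?_
  rw [← hc M, ← hc M', show M.asIdeal.map φ = M'.asIdeal.map φ from congrArg MaximalSpectrum.asIdeal h]

theorem nonempty_quotient_equiv :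
    Nonempty ((EGA4.CTensor k A B ⧸ (maximalIdeal A).map (algebraMap A (EGA4.CTensor k A B))) ≃+*
      ((A ⧸ maximalIdeal A) ⊗[k] B)) := by
  obtain ⟨φ, -, hφ, hker⟩ := exists_proj k A B 1
  exact ⟨((Ideal.quotEquivOfEq (hker.trans (congrArg
      (fun I => Ideal.map (algebraMap A (EGA4.CTensor k A B)) I) (pow_one (maximalIdeal A)))).symm).trans
    (RingHom.quotientKerEquivOfSurjective hφ)).trans
    (Algebra.TensorProduct.congr (Ideal.quotientEquivAlgOfEq k (pow_one (maximalIdeal A)))
      (AlgEquiv.refl : B ≃ₐ[k] B)).toRingEquiv⟩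

theorem finite_quotient_right (M : Ideal (EGA4.CTensor k A B)) [hM : M.IsMaximal] :
    Module.Finite B (EGA4.CTensor k A B ⧸ M) := by
  obtain ⟨φ, hφT, hφ, hker⟩ := exists_proj k A B 1
  haveI := finite_S k A B 1
  have hle : RingHom.ker φ ≤ M := by
    rw [hker, pow_one]
    exact (map_maximalIdeal_le_jacobson k A B).trans (sInf_le ⟨bot_le, hM⟩)
  let ψ : S k A B 1 →+* EGA4.CTensor k A B ⧸ M :=
    (Ideal.Quotient.factor hle).comp (RingHom.quotientKerEquivOfSurjective hφ).symm.toRingHom
  have hψ : ∀ x, ψ (φ x) = Ideal.Quotient.mk M x := fun x => by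
    have h1 : (RingHom.quotientKerEquivOfSurjective hφ).symm (φ x) = Ideal.Quotient.mk _ x :=
      (RingEquiv.symm_apply_eq _).2 (RingHom.quotientKerEquivOfSurjective_apply_mk hφ x).symm
    simp only [ψ, RingHom.comp_apply, RingEquiv.toRingHom_eq_coe, RingHom.coe_coe, h1]
    rfl
  refine Module.Finite.of_surjective (R := B) (M := S k A B 1)
    { toFun := ψ
      map_add' := map_add ψ
      map_smul' := fun b z => by
        rw [Algebra.smul_def, map_mul, RingHom.id_apply, Algebra.smul_def]
        congr 1
        have hb : φ (algebraMap B (EGA4.CTensor k A B) b) = algebraMap B (S k A B 1) b := by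
          rw [IsScalarTower.algebraMap_apply B (A ⊗[k] B) (EGA4.CTensor k A B), hφT]
          show π k A B 1 ((1 : A) ⊗ₜ b) = _
          rw [π_tmul, map_one]
          rfl
        rw [← hb, hψ]
        rfl } fun z => ?_
  obtain ⟨x, rfl⟩ := Ideal.Quotient.mk_surjective z
  exact ⟨φ x, hψ x⟩

/-- The completed tensor product is flat over `B`. -/
theorem flat_right : Module.Flat B (EGA4.CTensor k A B) := by
  classical
  let C := EGA4.CTensor k A B
  haveI : IsNoetherianRing C := isNoetherianRing_cTensor k A B
  rw [Module.Flat.iff_lTensor_injective']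
  intro a
  rw [injective_iff_map_eq_zero]
  intro z hz
  have hmem : ∀ n : ℕ, z ∈ ((maximalIdeal A).map (algebraMap A C)) ^ n • (⊤ : Submodule C (C ⊗[B] a)) := by
    intro n
    obtain ⟨φ, hφT, hφ, hker⟩ := exists_proj k A B n
    have hb : ∀ b : B, φ (algebraMap B C b) = algebraMap B (S k A B n) b := fun b => by
      rw [IsScalarTower.algebraMap_apply B (A ⊗[k] B) C, hφT]
      show π k A B n ((1 : A) ⊗ₜ b) = _
      rw [π_tmul, map_one]
      rfl
    let φl : C →ₗ[B] S k A B n :=
      { toFun := φ, map_add' := map_add φ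
        map_smul' := fun b x => by rw [Algebra.smul_def, map_mul, hb, RingHom.id_apply, Algebra.smul_def] }
    haveI := finite_quotient_pow k (A := A) n
    haveI : Module.Flat B (S k A B n) := by
      let e : B ⊗[k] (A ⧸ maximalIdeal A ^ n) ≃ₗ[B] S k A B n :=
        { (Algebra.TensorProduct.comm k B (A ⧸ maximalIdeal A ^ n)).toLinearEquiv.toEquiv with
          map_add' := map_add _
          map_smul' := fun b x => by
            rw [RingHom.id_apply]
            induction x using TensorProduct.induction_on with
            | zero => simp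
            | add x y hx hy =>
              simp only [smul_add] at hx hy ⊢
              simp only [Equiv.toFun_as_coe, LinearEquiv.coe_toEquiv, map_add] at hx hy ⊢
              rw [hx, hy, smul_add]
            | tmul x c =>
              show Algebra.TensorProduct.comm k B _ (b • x ⊗ₜ c) = b • Algebra.TensorProduct.comm k B _ (x ⊗ₜ c)
              rw [TensorProduct.smul_tmul', Algebra.TensorProduct.comm_tmul, Algebra.TensorProduct.comm_tmul,
                Algebra.smul_def]
              show c ⊗ₜ[k] (b * x) = ((1 : A ⧸ maximalIdeal A ^ n) ⊗ₜ[k] b) * (c ⊗ₜ[k] x)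
              rw [Algebra.TensorProduct.tmul_mul_tmul, one_mul] }
      exact Module.Flat.of_linearEquiv e.symm
    have h0 : φl.rTensor a z = 0 := by
      apply Module.Flat.lTensor_preserves_injective_linearMap (M := S k A B n) a.subtype a.injective_subtype
      rw [map_zero, ← LinearMap.comp_apply, LinearMap.lTensor_comp_rTensor, ← LinearMap.rTensor_comp_lTensor,
        LinearMap.comp_apply, hz, map_zero]
    obtain ⟨w, hw⟩ := (rTensor_exact a (LinearMap.exact_subtype_ker_map φl) hφ z).1 h0
    rw [← hw]
    clear hw
    induction w using TensorProduct.induction_on with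
    | zero => rw [map_zero]; exact zero_mem _
    | add x y hx hy => rw [map_add]; exact add_mem hx hy
    | tmul c i =>
      rw [LinearMap.rTensor_tmul, Submodule.subtype_apply]
      have hc : (c : C) ∈ ((maximalIdeal A).map (algebraMap A C)) ^ n := by
        rw [← Ideal.map_pow, ← hker]; exact c.2
      have : (c : C) ⊗ₜ[B] i = (c : C) • ((1 : C) ⊗ₜ[B] i) := by
        rw [TensorProduct.smul_tmul', smul_eq_mul, mul_one]
      rw [this]
      exact Submodule.smul_mem_smul hc trivial
  haveI : IsHausdorff ((maximalIdeal A).map (algebraMap A C)) (C ⊗[B] a) :=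
    IsHausdorff.of_le_jacobson _ _ (map_maximalIdeal_le_jacobson k A B)
  refine IsHausdorff.haus (I := (maximalIdeal A).map (algebraMap A C)) inferInstance z fun n => ?_
  rw [SModEq.zero]
  exact hmem n

end Groth.Agent.CTens
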